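import Cfsg.Agent.Ly.T3

/-! A Sylow 2-subgroup whose involutions form a central four-group fused in the normalizer. -/

set_option autoImplicit false
set_option linter.unusedSectionVars false

namespace Ly

open Cfsg Subgroup FT H4 GW
open H5 (IsSylowOf)

variable {G : Type*} [Group G] [Finite G] {S Z : Subgroup G} {n y : G}

theorem T3.of_odd (two : IsPGroup 2 S) (cardZ : Nat.card Z = 4)
    (mem : ∀ x, x ∈ Z ↔ x ∈ S ∧ x * x = 1) (cen : ∀ z ∈ Z, ∀ x ∈ S, x * z = z * x)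
    (hy : y ∈ Nor S) (yo : Odd (orderOf y)) (yc : y ∉ Cen Z) : T3 S Z y := by
  refine ⟨two, cardZ, mem, cen, hy, fun z hz e => ?_⟩
  by_contra z1
  refine yc (GW.cen.mpr fun w hw => ?_)
  by_contra c
  have w1 : w ≠ 1 := fun e => c (by simp [e])
  have zz := ((mem z).mp hz).2
  have f : F4 z w := ⟨W.o2 zz z1, W.o2 ((mem w).mp hw).2 w1, cen w hw z ((mem z).mp hz).1,
    fun e1 => c (by rw [e1, ← mul_inv_eq_iff_eq_mul, e])⟩
  have h1 : y * w * y⁻¹ ∈ Z := (mem _).mpr ⟨cmem hy ((mem w).mp hw).1, by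
    rw [conj_mul, ((mem w).mp hw).2]; group⟩
  rw [← eq_of_le_of_card_ge (V_le hz hw) (cardZ.trans f.card_V.symm).le, f.mem_V] at h1
  rcases h1 with h1 | h1 | h1 | h1
  · exact w1 (by simpa using h1)
  · exact f.ne (mul_left_cancel (mul_right_cancel (h1.trans e.symm)))
  · exact c (by rw [← mul_inv_eq_iff_eq_mul, h1])
  · exact z1 (fix_of_odd (k := 1) yo (y := w) (by rw [pow_one, pow_two, zz])
      (mul_inv_eq_iff_eq_mul.mp e) (h1.trans f.c))

/-- a 3-element of the normalizer permutes the three involutions -/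
theorem T3.exists_three {k : G} (t : T3 S Z k) :
    ∃ a ∈ zpowers k, ∃ m : ℕ, a ^ 3 ^ m = 1 ∧ T3 S Z a ∧ a ∉ Cen Z := by
  have := Fintype.ofFinite G
  obtain ⟨a, ha, b, hb, e1, a3, b3⟩ := exists_piPart {3} k
  have bc : b ∈ Cen Z := by
    obtain ⟨j, hj⟩ := exists_pow_eq_self_of_coprime
      ((piNum_compl_singleton' Nat.prime_three).mp b3).symm
    obtain ⟨i, rfl⟩ := hb
    exact hj ▸ pow_mem (H5.mem_of_eq (zpow_mem t.cube i) (by
      rw [← zpow_natCast, ← zpow_natCast, ← zpow_mul, ← zpow_mul, mul_comm])) j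
  have t' : T3 S Z a := ⟨t.two, t.cardZ, t.mem, t.cen, zpowers_le.mpr t.nor ha, fun x hx e2 =>
    t.fpf x hx (by rw [e1, mul_assoc a, GW.cen.mp bc x hx]; exact Eq.trans (by group) e2)⟩
  obtain ⟨x, hx, x1⟩ := t.exists_ne
  obtain ⟨m, hm⟩ := (piNum_singleton Nat.prime_three (orderOf_pos a).ne').mp a3
  exact ⟨a, ha, m, hm ▸ pow_orderOf_eq_one a, t',
    fun c => x1 (t'.fpf x hx (by rw [GW.cen.mp c x hx]; group))⟩

theorem ab_or_u34_odd (two : IsPGroup 2 S) (cardZ : Nat.card Z = 4)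
    (mem : ∀ x, x ∈ Z ↔ x ∈ S ∧ x * x = 1) (cen : ∀ z ∈ Z, ∀ x ∈ S, x * z = z * x)
    (hy : y ∈ Nor S) (yo : Odd (orderOf y)) (yc : y ∉ Cen Z) : IsMulCommutative S ∨ U34 S Z := by
  have := Fintype.ofFinite G
  obtain ⟨a, -, m, hm, t, -⟩ := (T3.of_odd two cardZ mem cen hy yo yc).exists_three
  exact or_iff_not_imp_left.mpr (t.u34 hm)

theorem ab_or_u34 (hS : IsSylowOf 2 S ⊤) (cardZ : Nat.card Z = 4)
    (mem : ∀ x, x ∈ Z ↔ x ∈ S ∧ x * x = 1) (cen : ∀ z ∈ Z, ∀ x ∈ S, x * z = z * x)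
    (hn : n ∈ Nor S) (nc : n ∉ Cen Z) : IsMulCommutative S ∨ U34 S Z := by
  obtain ⟨s, hs, y, y1, e, y2⟩ := exists_decomp_nor hS hn
  exact ab_or_u34_odd hS.isPGroup cardZ mem cen (zpowers_le.mpr hn y2) (odd_iff_cop.mpr y1)
    fun c => nc (e ▸ mul_mem (GW.cen.mpr fun z hz => cen z hz s hs) c)

end Ly
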