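import Cfsg.Agent.Ly.Grp2
import Cfsg.Agent.BS.Hig3
import Cfsg.Agent.W.Basic

/-! 2-groups with three central involutions permuted by an automorphism. -/

set_option autoImplicit false
set_option linter.unusedSectionVars false

namespace Ly

open Cfsg Subgroup FT H4 GW
open scoped commutatorElement Classical

structure T3 {G : Type*} [Group G] (S Z : Subgroup G) (k : G) : Prop where
  two : IsPGroup 2 S
  cardZ : Nat.card Z = 4
  mem : ∀ x, x ∈ Z ↔ x ∈ S ∧ x * x = 1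
  cen : ∀ z ∈ Z, ∀ x ∈ S, x * z = z * x
  nor : k ∈ Nor S
  fpf : ∀ z ∈ Z, k * z * k⁻¹ = z → z = 1

namespace T3

variable {G : Type*} [Group G] [Fintype G] {S Z D : Subgroup G} {a b c k t x y z : G}

theorem le (h : T3 S Z k) : Z ≤ S := fun x hx => ((h.mem x).mp hx).1

theorem zz (h : T3 S Z k) (hz : z ∈ Z) : z * z = 1 := ((h.mem z).mp hz).2

theorem cj (h : T3 S Z k) (hz : z ∈ Z) : k * z * k⁻¹ ∈ Z :=
  (h.mem _).mpr ⟨cmem h.nor (h.le hz), by rw [conj_mul, h.zz hz]; group⟩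

theorem f4 (h : T3 S Z k) (ht : t ∈ Z) (t1 : t ≠ 1) : F4 t (k * t * k⁻¹) :=
  ⟨W.o2 (h.zz ht) t1, iconj (W.o2 (h.zz ht) t1) k, h.cen _ (h.cj ht) _ (h.le ht),
    fun e => t1 (h.fpf t ht e)⟩

theorem cases (h : T3 S Z k) (ht : t ∈ Z) (t1 : t ≠ 1) :
    z ∈ Z ↔ z = 1 ∨ z = t ∨ z = k * t * k⁻¹ ∨ z = t * (k * t * k⁻¹) := by
  rw [← (h.f4 ht t1).mem_V, eq_of_le_of_card_ge (V_le ht (h.cj ht))
    (by rw [(h.f4 ht t1).card_V, h.cardZ])]

theorem kk (h : T3 S Z k) (ht : t ∈ Z) : k * (k * t * k⁻¹) * k⁻¹ = t * (k * t * k⁻¹) := by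
  by_cases t1 : t = 1
  · simp [t1]
  rcases (h.cases ht t1).mp (h.cj (h.cj ht)) with e | e | e | e
  · exact absurd (by simpa using e) t1
  · refine absurd (h.fpf _ (mul_mem ht (h.cj ht)) ?_) (ine (h.f4 ht t1).hta)
    rw [← conj_mul, e, (h.f4 ht t1).c]
  · exact absurd (by simpa using h.fpf _ (h.cj ht) e) t1
  · exact e

theorem cube (h : T3 S Z k) : k ^ 3 ∈ Cen Z := GW.cen.mpr fun t ht => c1.mp (c1'.mpr (by
  calc _ = k * (k * (k * t * k⁻¹) * k⁻¹) * k⁻¹ := by simp only [pow_succ, pow_zero]; group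
    _ = t := by rw [h.kk ht, ← conj_mul, h.kk ht, ← h.cen t ht _ (h.le (h.cj ht)), ← mul_assoc,
      h.zz (h.cj ht), one_mul]))

theorem exists_ne (h : T3 S Z k) : ∃ t ∈ Z, t ≠ 1 := W.ex_ne fun e => by
  have := h.cardZ
  rw [e, card_bot] at this
  omega

theorem sub (h : T3 S Z k) (hD : D ≤ S) (hk : k ∈ Nor D) (h0 : D ≠ ⊥) : T3 D Z k := by
  obtain ⟨t, ht, ot⟩ := ex_inv (K := D) fun e =>
    h0 (by rw [← W.two_odd (h.two.to_le hD) e, inf_idem])
  have : Z ≤ D := fun z hz => by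
    rcases (h.cases ((h.mem t).mpr ⟨hD ht, ii ot⟩) (ine ot)).mp hz with rfl | rfl | rfl | rfl
    exacts [one_mem _, ht, cmem hk ht, mul_mem ht (cmem hk ht)]
  exact ⟨h.two.to_le hD, h.cardZ, fun x => ⟨fun hx => ⟨this hx, h.zz hx⟩, fun hx =>
    (h.mem x).mpr ⟨hD hx.1, hx.2⟩⟩, fun z hz x hx => h.cen z hz x (hD hx), hk, h.fpf⟩

/-- the number of square roots -/
noncomputable def fib (S : Subgroup G) (a : G) : Finset G :=
  Finset.univ.filter fun x => x ∈ S ∧ x * x = a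

theorem fib_conj (hk : k ∈ Nor S) (a : G) : (fib S (k * a * k⁻¹)).card = (fib S a).card := by
  symm
  refine Finset.card_bij (fun x _ => k * x * k⁻¹) (fun x hx => ?_)
    (fun x _ y _ e => mul_left_cancel (mul_right_cancel e)) fun y hy => ⟨k⁻¹ * y * k, ?_, by group⟩
  · simp only [fib, Finset.mem_filter, Finset.mem_univ, true_and] at hx ⊢
    exact ⟨cmem hk hx.1, by rw [conj_mul, hx.2]⟩
  · simp only [fib, Finset.mem_filter, Finset.mem_univ, true_and] at hy ⊢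
    exact ⟨cmem' hk hy.1, by
      rw [show k⁻¹ * y * k * (k⁻¹ * y * k) = k⁻¹ * (y * y) * k by group, hy.2]; group⟩

theorem fib_one (h : T3 S Z k) : (fib S 1).card = 4 := by
  rw [← h.cardZ, ← card_filter_mem]
  simp only [fib, h.mem]

theorem sum_fib (S : Subgroup G) (a : G) :
    ∑ x ∈ Finset.univ.filter (· ∈ S), (if x * x = a then (1 : ℤ) else 0) = (fib S a).card := by
  rw [Finset.sum_boole, Finset.filter_filter]; rfl

theorem card_eq (h : T3 S Z k) (sq : ∀ x ∈ S, x * x ∈ Z) (ht : t ∈ Z) (t1 : t ≠ 1) :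
    Nat.card S = 4 + 3 * (fib S t).card := by
  have f := h.f4 ht t1
  have e : ∑ x ∈ Finset.univ.filter (· ∈ S), (1 : ℤ) = (fib S 1).card + (fib S t).card +
      (fib S (k * t * k⁻¹)).card + (fib S (t * (k * t * k⁻¹))).card := by
    simp only [← sum_fib, ← Finset.sum_add_distrib]
    refine Finset.sum_congr rfl fun x hx => ?_
    have n1 := ine f.ha
    have n2 := ine f.hta
    have n3 := f.ne
    have n4 := f.mul.ne
    have n5 := f.mul'.ne
    rcases (h.cases ht t1).mp (sq x (by simpa using hx)) with e | e | e | e <;> rw [e]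
    · rw [if_pos rfl, if_neg t1.symm, if_neg n1.symm, if_neg n2.symm]; rfl
    · rw [if_pos rfl, if_neg t1, if_neg n3.symm, if_neg n4.symm]; rfl
    · rw [if_pos rfl, if_neg n1, if_neg n3, if_neg n5.symm]; rfl
    · rw [if_pos rfl, if_neg n2, if_neg n4, if_neg n5]; rfl
  rw [← h.kk ht, fib_conj h.nor (k * t * k⁻¹), fib_conj h.nor, h.fib_one, sum_mem_const] at e
  simp only [nsmul_eq_mul] at e
  omega

theorem comm (sq : ∀ x ∈ S, x * x ∈ Z) (hx : x ∈ S) (hy : y ∈ S) : ⁅x, y⁆ ∈ Z :=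
  BS.Sq_le_iff.mpr sq (BS.comm_mem_Sq hx hy)

theorem bl (h : T3 S Z k) (sq : ∀ x ∈ S, x * x ∈ Z) (ha : a ∈ S) (hb : b ∈ S) (hy : y ∈ S) :
    ⁅a * b, y⁆ = ⁅a, y⁆ * ⁅b, y⁆ := by
  rw [commutatorElement_mul_left_eq_conj_mul, h.cen _ (comm sq hb hy) a ha, mul_inv_cancel_right,
    h.cen _ (comm sq ha hy) _ (h.le (comm sq hb hy))]

theorem br (h : T3 S Z k) (sq : ∀ x ∈ S, x * x ∈ Z) (ha : a ∈ S) (hb : b ∈ S) (hy : y ∈ S) :
    ⁅y, a * b⁆ = ⁅y, a⁆ * ⁅y, b⁆ := by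
  rw [commutatorElement_mul_right_eq_mul_conj, mul_assoc _ a, h.cen _ (comm sq hy hb) a ha]
  group

theorem bz (h : T3 S Z k) (hz : z ∈ Z) (hy : y ∈ S) : ⁅z, y⁆ = 1 :=
  commutatorElement_eq_one_iff_mul_comm.mpr (h.cen z hz y hy).symm

theorem bz' (h : T3 S Z k) (hz : z ∈ Z) (hy : y ∈ S) : ⁅y, z⁆ = 1 :=
  commutatorElement_eq_one_iff_mul_comm.mpr (h.cen z hz y hy)

theorem dvd128 (h : T3 S Z k) (sq : ∀ x ∈ S, x * x ∈ Z) : Nat.card S ∣ 128 := by
  obtain ⟨t, ht, t1⟩ := h.exists_ne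
  have f := h.f4 ht t1
  let ε : G → ℤ := fun z => if z ∈ zpowers t then 1 else -1
  have hi : ((zpowers t).subgroupOf Z).index = 2 := by
    have := H5.card_mul_relIndex (zpowers_le.mpr ht)
    rw [Nat.card_zpowers, f.ht, h.cardZ] at this
    exact Nat.eq_of_mul_eq_mul_left two_pos this
  have mul : ∀ x ∈ Z, ∀ y ∈ Z, ε (x * y) = ε x * ε y := fun x hx y hy => by
    have := mul_mem_iff_of_index_two hi (a := ⟨x, hx⟩) (b := ⟨y, hy⟩)
    simp only [mem_subgroupOf] at this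
    by_cases h1 : x ∈ zpowers t <;> by_cases h2 : y ∈ zpowers t <;>
      simp [ε, h1, h2] at this ⊢ <;> exact this
  have sq1 : ∀ x, ε x * ε x = 1 := fun x => by by_cases h1 : x ∈ zpowers t <;> simp [ε, h1]
  set s : Finset G := Finset.univ.filter (· ∈ S)
  have ms : ∀ x, x ∈ s ↔ x ∈ S := fun x => by simp [s]
  have h2 : ∑ x ∈ s, ε (x * x) = 8 + 2 * (fib S t).card - Nat.card S := by
    have e : ∑ x ∈ s, ε (x * x) = 2 * (fib S 1).card + 2 * (fib S t).card - ∑ x ∈ s, (1 : ℤ) := by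
      rw [← sum_fib, ← sum_fib, Finset.mul_sum, Finset.mul_sum, ← Finset.sum_add_distrib,
        ← Finset.sum_sub_distrib]
      refine Finset.sum_congr rfl fun x _ => ?_
      simp only [ε, H9.mem_zpowers_two f.ht]
      by_cases e : x * x = 1
      · simp [e, t1.symm]
      · simp only [e, false_or, if_false]; split_ifs <;> rfl
    rw [e, h.fib_one, sum_mem_const]; simp
  let r : G → ℤ := fun y => if ∀ x ∈ S, ε ⁅x⁻¹, y⁆ = 1 then ε (y * y) else 0
  have h3 : (∑ x ∈ s, ε (x * x)) * ∑ x ∈ s, ε (x * x) = Nat.card S * ∑ y ∈ s, r y := by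
    rw [Finset.sum_mul_sum, Finset.sum_congr rfl (g := fun x => ∑ y ∈ s,
      ε ⁅x⁻¹, y⁆ * ε (y * y)), Finset.sum_comm, Finset.mul_sum]
    · refine Finset.sum_congr rfl fun y hy => ?_
      have hy' := (ms y).mp hy
      rw [← Finset.sum_mul]
      by_cases hy1 : ∀ x ∈ S, ε ⁅x⁻¹, y⁆ = 1
      · simp only [r, if_pos hy1]
        rw [Finset.sum_congr rfl fun x hx => hy1 x ((ms x).mp hx), sum_mem_const]
        simp
      · simp only [r, if_neg hy1]
        push Not at hy1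
        obtain ⟨x₀, hx₀, e⟩ := hy1
        have e1 := sum_mem_mul_left hx₀ fun x => ε ⁅x⁻¹, y⁆
        rw [Finset.sum_congr rfl (g := fun x => -ε ⁅x⁻¹, y⁆) fun x hx => by
          have hx' := inv_mem ((ms x).mp hx)
          rw [mul_inv_rev, h.bl sq hx' (inv_mem hx₀) hy', mul _ (comm sq hx' hy') _
            (comm sq (inv_mem hx₀) hy')]
          by_cases h4 : ⁅x₀⁻¹, y⁆ ∈ zpowers t <;> simp [ε, h4] at e ⊢, Finset.sum_neg_distrib] at e1
        rw [show ∑ x ∈ s, ε ⁅x⁻¹, y⁆ = 0 by linarith]; simp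
    · intro x hx
      have hx' := (ms x).mp hx
      rw [← sum_mem_mul_left hx' fun y => ε (x * x) * ε (y * y)]
      refine Finset.sum_congr rfl fun y hy => ?_
      have hy' : y ∈ S := (ms y).mp hy
      have m := comm sq (inv_mem hx') hy'
      rw [BS.mul_sq_eq, mul _ (mul_mem (sq x hx') m) _ (sq y hy'), mul _ (sq x hx') _ m,
        ← mul_assoc, ← mul_assoc, sq1, one_mul]
  have h4 : (2 : ℤ) ∣ ∑ y ∈ s, r y := by
    refine (ZMod.intCast_zmod_eq_zero_iff_dvd _ 2).mp ?_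
    rw [Int.cast_sum]
    refine Finset.sum_involution (fun y _ => y * t) (fun y hy => ?_)
      (fun y _ _ e => t1 (mul_eq_left.mp e)) (fun y hy => (ms _).mpr (mul_mem ((ms y).mp hy)
        (h.le ht))) (fun y _ => by rw [mul_assoc, h.zz ht, mul_one])
    have hy' := (ms y).mp hy
    have e2 : r (y * t) = r y := by
      simp only [r]
      rw [show y * t * (y * t) = y * y by
        rw [mul_assoc y, ← mul_assoc t, ← h.cen t ht y hy', mul_assoc y, h.zz ht, mul_one]]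
      exact if_congr (forall₂_congr fun x hx => by
        rw [h.br sq hy' (h.le ht) (inv_mem hx), h.bz' ht (inv_mem hx), mul_one]) rfl rfl
    rw [e2, CharTwo.add_self_eq_zero]
  obtain ⟨R, hR⟩ := h4
  obtain ⟨m, hm⟩ := (h.cardZ ▸ card_dvd_of_le h.le : 4 ∣ Nat.card S)
  have e := h.card_eq sq ht t1
  rw [h2, hR] at h3
  have e1 : (Nat.card S : ℤ) = 4 * m := by exact_mod_cast hm
  have e2 : (Nat.card S : ℤ) = 4 + 3 * (fib S t).card := by exact_mod_cast e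
  rw [← Int.natCast_dvd_natCast]
  refine ⟨9 * R + 16 - 2 * m, mul_left_cancel₀ two_ne_zero ?_⟩
  push_cast
  linear_combination 9 * h3 + (2 * (40 + 6 * (fib S t).card - 4 * Nat.card S : ℤ)) * e2 -
    Nat.card S * e1

theorem card_cases (h : T3 S Z k) (sq : ∀ x ∈ S, x * x ∈ Z) :
    Nat.card S = 4 ∨ Nat.card S = 16 ∨ Nat.card S = 64 := by
  obtain ⟨t, ht, t1⟩ := h.exists_ne
  have e := h.card_eq sq ht t1
  obtain ⟨i, hi, e1⟩ := (Nat.dvd_prime_pow Nat.prime_two).mp (show _ ∣ 2 ^ 7 from h.dvd128 sq)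
  interval_cases i <;> omega

theorem cen_aux (h : T3 S Z k) (ho : Odd (orderOf c)) (c2 : c ∈ Cen Z) (kc : Commute k c)
    (c3 : c ^ 3 ∈ Cen S) (D : Subgroup G) : D ≤ S → k ∈ Nor D → c ∈ Nor D → c ∈ Cen D := by
  induction D using WellFoundedLT.induction with
  | ind D ih =>
  intro hD kD cD
  by_contra hc
  have D2 := h.two.to_le hD
  have key : ∀ E ≤ D, k ∈ Nor E → (∀ y ∈ D, y⁻¹ * (c * y * c⁻¹) ∈ E) → D ≤ E := by
    intro E hE kE hφ
    by_contra c
    have := ih E (lt_of_le_not_ge hE c) (hE.trans hD) kE (mnor fun e he =>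
      H5.mem_of_eq (mul_mem he (hφ e (hE he))) (by group))
    refine hc (GW.cen.mpr fun y hy => c1.mp (c1'.mpr ?_))
    obtain ⟨j, hj⟩ := D2 ⟨_, hE (hφ y hy)⟩
    have e := fix_of_odd ho (y := y) (congrArg Subtype.val hj) (GW.cen.mp this _ (hφ y hy))
      (by simp)
    exact (inv_mul_eq_one.mp e).symm
  have D0 : D ≠ ⊥ := fun e => hc (by simp [e, GW.cen])
  have hd := h.sub hD kD D0
  have cs : c ∈ Cen (BS.Sq D) := by
    obtain ⟨M, -, h1, -, -, -, h2⟩ := H7.exists_maximal_of_lt D2 (bot_lt_iff_ne_bot.mpr D0)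
    exact ih _ (lt_of_le_of_lt (BS.Sq_le_iff.mpr fun x hx => by simpa [pow_two] using h2 x hx) h1)
      ((BS.Sq_le D).trans hD) (BS.mem_nor_Sq kD) (BS.mem_nor_Sq cD)
  have e1 : D ≤ D ⊓ Cen (BS.Sq D) := key _ inf_le_left (minf kD (mcen (BS.mem_nor_Sq kD)))
    fun y hy => mem_inf.mpr ⟨mul_mem (inv_mem hy) (cmem cD hy), H5.mem_of_eq (mul_mem
      (cmem' (mcen (BS.mem_nor_Sq (le_normalizer hy))) cs) (inv_mem cs)) (by group)⟩
  have e2 : ∀ x ∈ D, ∀ y ∈ D, ⁅x, y⁆ ∈ Z := fun x hx y hy => by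
    have m := BS.comm_mem_Sq hx hy
    refine (h.mem _).mpr ⟨hD (BS.Sq_le D m), ?_⟩
    have := BS.comm_sq_left x y
    rw [commutatorElement_eq_one_iff_mul_comm.mpr (GW.cen.mp (e1 hy).2 _ (BS.sq_mem_Sq hx)).symm,
      commutatorElement_eq_one_iff_mul_comm.mpr (GW.cen.mp (e1 hx).2 _ m), one_mul] at this
    exact this.symm
  let E : Subgroup G :=
    { carrier := {x | x ∈ D ∧ x * x ∈ Z}
      one_mem' := ⟨one_mem _, by simp⟩
      inv_mem' := fun hx => ⟨inv_mem hx.1, by simpa using inv_mem hx.2⟩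
      mul_mem' := fun {a b} ha hb => ⟨mul_mem ha.1 hb.1, by
        rw [BS.mul_sq_eq]
        exact mul_mem (mul_mem ha.2 (e2 _ (inv_mem ha.1) _ hb.1)) hb.2⟩ }
  have sq : ∀ x ∈ D, x * x ∈ Z := fun x hx => (key E (fun _ h => h.1) (mnor fun e he =>
    ⟨cmem kD he.1, by rw [conj_mul]; exact h.cj he.2⟩) (fun y hy =>
      ⟨mul_mem (inv_mem hy) (cmem cD hy), by
        rw [BS.mul_sq_eq, inv_inv, conj_mul, GW.cen.mp cs _ (BS.sq_mem_Sq hy), mul_inv_cancel_right,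
          mul_assoc, ← h.cen _ (e2 _ hy _ (cmem cD hy)) _ (hD (mul_mem hy hy))]
        simpa [mul_assoc] using e2 _ hy _ (cmem cD hy)⟩) hx).2
  have ZC : Z ≤ D ⊓ Cen1 c := fun z hz => ⟨hd.le hz, c1s.mp (c1.mpr (GW.cen.mp c2 z hz))⟩
  obtain ⟨t, ht, t1⟩ := h.exists_ne
  have hC := h.sub (inf_le_left.trans hD) (minf kD (mc1 (c1c.mpr kc))) (W.ne_bot_of (ZC ht) t1)
  have sq' : ∀ x ∈ D ⊓ Cen1 c, x * x ∈ Z := fun x hx => sq x hx.1
  have d := dvd_ncard (A := ↑(fib D t \ fib (D ⊓ Cen1 c) t)) (v := c) Nat.prime_three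
    (fun x hx => by
      simp only [fib, Finset.coe_sdiff, Finset.coe_filter, Finset.mem_univ, true_and, Set.mem_sdiff,
        Set.mem_ofPred_eq, mem_inf, c1] at hx ⊢
      refine ⟨⟨cmem cD hx.1.1, by rw [conj_mul, hx.1.2, GW.cen.mp c2 t ht]; group⟩,
        fun e => hx.2 ⟨⟨hx.1.1, ?_⟩, hx.1.2⟩⟩
      exact mul_left_cancel (a := c) (by simpa [mul_assoc] using congrArg (· * c) e.1.2))
    (fun x hx => by
      have : x ∈ D := (Finset.mem_filter.mp (Finset.mem_sdiff.mp hx).1).2.1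
      rw [GW.cen.mp c3 x (hD this)]; group)
    fun x hx e => by
      have := Finset.mem_sdiff.mp hx
      simp only [fib, Finset.mem_filter, Finset.mem_univ, true_and] at this
      exact this.2 ⟨⟨this.1.1, c1s.mp (c1'.mpr e)⟩, this.1.2⟩
  have sub : fib (D ⊓ Cen1 c) t ⊆ fib D t := fun x hx => by
    simp only [fib, Finset.mem_filter, Finset.mem_univ, true_and] at hx ⊢
    exact ⟨hx.1.1, hx.2⟩
  rw [Set.ncard_coe_finset, Finset.card_sdiff_of_subset sub] at d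
  have := Finset.card_le_card sub
  have := hd.card_eq sq ht t1
  have := hC.card_eq sq' ht t1
  have := hd.card_cases sq
  have := hC.card_cases sq'
  have e := eq_of_le_of_card_ge (inf_le_left : D ⊓ Cen1 c ≤ D) (by omega)
  exact hc (cen_iff_le.mpr (e.ge.trans inf_le_right))

theorem cen_of (h : T3 S Z k) (m : ℕ) : ∀ c ∈ Nor S, c ∈ Cen Z → Commute k c → c ^ 3 ^ m = 1 →
    c ∈ Cen S := by
  induction m with
  | zero => intro c _ _ _ e; rw [pow_zero, pow_one] at e; exact e ▸ one_mem _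
  | succ m ih =>
    intro c c1 c2 kc e
    exact h.cen_aux ((Odd.pow (by decide)).of_dvd_nat (orderOf_dvd_of_pow_eq_one e)) c2 kc
      (ih _ (pow_mem c1 3) (pow_mem c2 3) (kc.pow_right 3) (by rwa [← pow_mul, ← pow_succ']))
      S le_rfl h.nor c1

theorem fpf' (h : T3 S Z k) (hx : x ∈ S) (e : k * x * k⁻¹ = x) : x = 1 := by
  by_contra c
  obtain ⟨j, hj⟩ := H3.exists_involution_pow (L.PElt_of_mem h.two hx) c
  exact ine hj (h.fpf _ ((h.mem _).mpr ⟨zpow_mem hx j, ii hj⟩) (by rw [← conj_zpow, e]))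

theorem higman (h : T3 S Z k) (c3 : k ^ 3 ∈ Cen S) (hna : ¬ IsMulCommutative S) :
    (∀ x ∈ S, x * x ∈ Z) ∧ ∀ x ∈ S, S ≤ Cen1 x → x ∈ Z := by
  let φ : MulAut S := S.normalizerMonoidHom ⟨k, h.nor⟩
  have hφ : ∀ (n : ℕ) (x : S), ((φ ^ n) x : G) = k ^ n * x * (k ^ n)⁻¹ := fun n x => by
    rw [← map_pow]; rfl
  let j : S →* S ⋊[MonoidHom.id (MulAut S)] MulAut S := SemidirectProduct.inl
  have hj : Function.Injective j := SemidirectProduct.inl_injective
  let κ : S ⋊[MonoidHom.id (MulAut S)] MulAut S := SemidirectProduct.inr φ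
  have hκ : ∀ (n : ℕ) (x : S), κ ^ n * j x * (κ ^ n)⁻¹ = j ((φ ^ n) x) := fun n x => by
    rw [← map_pow, ← map_inv]; exact (SemidirectProduct.inl_aut (φ ^ n) x).symm
  have : Finite (S ⋊[MonoidHom.id (MulAut S)] MulAut S) :=
    Finite.of_equiv _ SemidirectProduct.equivProd.symm
  have mZ : ∀ x : S, j x ∈ (Z.subgroupOf S).map j ↔ (x : G) ∈ Z := fun x => mem_map_iff_mem hj
  obtain ⟨t, ht, t1⟩ := h.exists_ne
  have s : BS.Suz j.range ((Z.subgroupOf S).map j) κ := by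
    refine ⟨h.two.of_equiv (MonoidHom.ofInjective hj), mnor ?_, fun x => ⟨?_, ?_⟩, ?_, ?_, ?_, ?_⟩
    · rintro _ ⟨x, rfl⟩
      exact ⟨_, by simpa using (hκ 1 x).symm⟩
    · rintro ⟨x, hx, rfl⟩
      exact ⟨⟨x, rfl⟩, by rw [← map_mul, show x * x = 1 from Subtype.ext (h.zz hx), map_one]⟩
    · rintro ⟨⟨x, rfl⟩, e⟩
      exact (mZ x).mpr ((h.mem _).mpr ⟨x.2, congrArg Subtype.val (hj (by
        rw [map_mul, e, map_one]) : x * x = 1)⟩)
    · rintro n _ ⟨x, rfl⟩ e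
      have e1 := hφ n x
      rw [hj ((hκ n x).symm.trans (by rw [e, mul_inv_cancel_right]))] at e1
      by_cases c : 3 ∣ n
      · obtain ⟨m, rfl⟩ := c
        left
        rw [← map_pow, show φ ^ (3 * m) = 1 from MulEquiv.ext fun y => Subtype.ext (by
          rw [hφ, pow_mul, GW.cen.mp (pow_mem c3 m) y y.2]; simp), map_one]
      · have a1 : k ^ n ∈ Cen1 (x : G) := c1'.mpr e1.symm
        have a2 : k ^ 3 ∈ Cen1 (x : G) := c1.mpr (GW.cen.mp c3 x x.2)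
        have a3 : k ^ (n * n) ∈ Cen1 (x : G) := pow_mul k n n ▸ pow_mem a1 n
        rw [← Nat.div_add_mod (n * n) 3, pow_add, pow_mul, mul_mem_cancel_left (pow_mem a2 _),
          show n * n % 3 = 1 by
            have : n % 3 = 1 ∨ n % 3 = 2 := by omega
            rcases this with e | e <;> simp [Nat.mul_mod, e], pow_one] at a3
        right
        rw [show x = 1 from Subtype.ext (h.fpf' x.2 (c1'.mp a3)), map_one]
    · rintro _ ⟨x, hx, rfl⟩ _ ⟨y, hy, rfl⟩ x1 y1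
      simp only [hκ, hj.eq_iff, Subtype.ext_iff, hφ]
      have x1' : (x : G) ≠ 1 := fun e => x1 (by rw [show x = 1 from Subtype.ext e, map_one])
      rcases (h.cases hx x1').mp hy with e | e | e | e
      · exact absurd (by rw [show y = 1 from Subtype.ext e, map_one]) y1
      · exact ⟨0, by simpa using e⟩
      · exact ⟨1, by simpa using e⟩
      · exact ⟨2, (e.trans (h.kk hx).symm).trans (by rw [pow_two, coe_subtype]; group)⟩
    · intro e
      have := hκ 1 ⟨t, h.le ht⟩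
      rw [e, one_pow, one_mul, inv_one, mul_one, hj.eq_iff, Subtype.ext_iff, hφ, pow_one] at this
      exact t1 (h.fpf t ht this.symm)
    · exact W.ne_bot_of ((mZ ⟨t, h.le ht⟩).mpr ht) fun e =>
        t1 (congrArg Subtype.val (hj (e.trans (map_one j).symm)))
  have na : ¬ BS.Ab j.range := fun c => hna ⟨⟨fun x y => hj (by
    rw [map_mul, map_mul]; exact c _ ⟨x, rfl⟩ _ ⟨y, rfl⟩)⟩⟩
  refine ⟨fun x hx => (mZ (⟨x, hx⟩ * ⟨x, hx⟩)).mp (map_mul j _ _ ▸ s.sq_mem na ⟨_, rfl⟩),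
    fun x hx c => (mZ ⟨x, hx⟩).mp (s.mem_of_cen na ⟨_, rfl⟩ ?_)⟩
  rintro _ ⟨y, rfl⟩
  rw [← map_mul, ← map_mul]
  exact congrArg j (Subtype.ext (c1.mp (c y.2)).symm)

theorem u34 (h : T3 S Z k) {m : ℕ} (hk : k ^ 3 ^ m = 1) (hna : ¬ IsMulCommutative S) :
    U34 S Z := by
  have c3 := h.cen_of m _ (pow_mem h.nor 3) h.cube (Commute.self_pow k 3)
    (by rw [← pow_mul, mul_comm, pow_mul, hk, one_pow])
  obtain ⟨sq, hc⟩ := h.higman c3 hna
  have k2 : ∀ x ∈ S, ∃ z ∈ Z, k * (k * x * k⁻¹) * k⁻¹ = z * (x * (k * x * k⁻¹)) := fun x hx => by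
    have m1 := cmem h.nor hx
    have m2 := cmem h.nor m1
    have m3 := mul_mem (mul_mem hx m1) m2
    have e : k * (x * (k * x * k⁻¹) * (k * (k * x * k⁻¹) * k⁻¹)) * k⁻¹ =
        x⁻¹ * (x * (k * x * k⁻¹) * (k * (k * x * k⁻¹) * k⁻¹)) * x := by
      have := GW.cen.mp c3 x hx
      calc _ = k * x * k * x * k⁻¹ * k⁻¹ * (k ^ 3 * x) * (k ^ 3)⁻¹ := by
            simp only [pow_succ, pow_zero]; group
        _ = _ := by rw [this]; group
    have := (h.mem _).mpr ⟨m3, h.fpf _ (sq _ m3) (by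
      rw [← conj_mul, e, show ∀ w : G, x⁻¹ * w * x * (x⁻¹ * w * x) = x⁻¹ * (w * w) * x from
        fun w => by group, h.cen _ (sq _ m3) _ (inv_mem hx)]; group)⟩
    refine ⟨_, mul_mem this (inv_mem (sq _ (mul_mem hx m1))), ?_⟩
    rw [mul_assoc (x * _ * _), ← h.cen _ this _ (mul_mem (inv_mem (h.le (sq _ (mul_mem hx m1))))
      (mul_mem hx m1))]
    group
  have cb : ∀ x y : G, ⁅k * x * k⁻¹, k * y * k⁻¹⁆ = k * ⁅x, y⁆ * k⁻¹ := BS.comm_conj k
  have b1 : ∀ x ∈ S, ∀ y ∈ S, ⁅x, k * y * k⁻¹⁆ = ⁅k * x * k⁻¹, y⁆ := fun x hx y hy => by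
    obtain ⟨z, hz, e⟩ := k2 x hx
    obtain ⟨w, hw, e'⟩ := k2 y hy
    have m1 := cmem h.nor hx
    have m2 := cmem h.nor hy
    have e1 := cb (k * x * k⁻¹) (k * y * k⁻¹)
    rw [e, e', cb, h.kk (comm sq hx hy), h.bl sq (h.le hz) (mul_mem hx m1)
      (mul_mem (h.le hw) (mul_mem hy m2)), h.bz hz (mul_mem (h.le hw) (mul_mem hy m2)), one_mul,
      h.br sq (h.le hw) (mul_mem hy m2) (mul_mem hx m1), h.bz' hw (mul_mem hx m1), one_mul,
      h.bl sq hx m1 (mul_mem hy m2), h.br sq hy m2 hx, h.br sq hy m2 m1, cb, mul_assoc,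
      mul_right_inj, ← mul_assoc, mul_eq_right, mul_eq_one_iff_eq_inv] at e1
    rw [e1, inv_eq_of_mul_eq_one_right (h.zz (comm sq m1 hy))]
  have key : ∀ x ∈ S, x ∉ Z → Nat.card S = Nat.card ↥(S ⊓ Cen1 x) * 4 := fun x hx hx' => by
    let f : S →* G := MonoidHom.mk' (fun s => ⁅x, (s : G)⁆) fun a b => h.br sq a.2 b.2 hx
    have h2 : f.ker = (S ⊓ Cen1 x).subgroupOf S := by
      ext s
      rw [MonoidHom.mem_ker, mem_subgroupOf, mem_inf, c1, eq_comm (a := (s : G) * x),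
        ← commutatorElement_eq_one_iff_mul_comm]
      exact ⟨fun e => ⟨s.2, e⟩, fun e => e.2⟩
    obtain ⟨y, hy, hy'⟩ := SetLike.not_le_iff_exists.mp fun c => hx' (hc x hx c)
    have h4 : f.range = Z := le_antisymm (by rintro _ ⟨s, rfl⟩; exact comm sq hx s.2) fun z hz => by
      have a1 : ⁅x, y⁆ ∈ f.range := ⟨⟨y, hy⟩, rfl⟩
      have a2 : k * ⁅x, y⁆ * k⁻¹ ∈ f.range := ⟨⟨_, cmem h.nor (cmem h.nor hy)⟩,
        (b1 x hx _ (cmem h.nor hy)).trans (cb x y)⟩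
      rcases (h.cases (comm sq hx hy) fun e => hy' (c1.mpr
        (commutatorElement_eq_one_iff_mul_comm.mp e).symm)).mp hz with rfl | rfl | rfl | rfl
      exacts [one_mem _, a1, a2, mul_mem a1 a2]
    have h3 := f.ker.card_mul_index
    rw [index_ker, h2, Nat.card_congr (subgroupOfEquivOfLe inf_le_left).toEquiv, h4, h.cardZ] at h3
    exact h3.symm
  have key2 : ∀ x ∈ S, x ∉ Z → Nat.card ↥(S ⊓ Cen1 x) = 16 := fun x hx hx' => by
    have := key x hx hx'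
    have := h.card_cases sq
    have := H5.card_lt_of_lt (lt_of_le_of_ne (show Z ≤ S ⊓ Cen1 x from fun z hz =>
      ⟨h.le hz, c1.mpr (h.cen z hz x hx).symm⟩) fun e => hx' (e.ge ⟨hx, c1.mpr rfl⟩))
    have := h.cardZ
    omega
  obtain ⟨x, hx, hx'⟩ := SetLike.not_le_iff_exists.mp fun c : S ≤ Z =>
    hna (H5.isMulCommutative_of_forall fun a ha b hb => h.cen b (c hb) a ha)
  exact ⟨by rw [key x hx hx', key2 x hx hx'], h.cardZ, h.mem, h.cen, sq, key2⟩

end T3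

end Ly
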