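import Cfsg.Agent.Ly.Red
import Cfsg.Agent.Ly.T3

/-! Groups whose `π`-subgroups are 2-closed: reductions and local structure. -/

set_option autoImplicit false
set_option linter.unusedSectionVars false

namespace Ly

open Cfsg Subgroup FT H4 GW
open H5 (IsSylowOf)

structure Hy (π : Set ℕ) (G : Type*) [Group G] : Prop where
  two : 2 ∈ π
  cl : ∀ H P : Subgroup G, PiG π H → IsSylowOf 2 P H → H ≤ Nor P
  ce : ∀ H : Subgroup G, PiG π H → ∀ x ∈ Nor H, PiE πᶜ x → x ∈ Cen H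

def NC (π : Set ℕ) {G : Type*} [Group G] (M : Subgroup G) : Prop :=
  ∀ x ∈ M, PiE πᶜ x → x ∈ piCoreOf πᶜ M

variable {π : Set ℕ} {G X : Type*} [Group G] [Finite G] [Group X] [Finite X]
  {D E M P S : Subgroup G} {g t x : G}

theorem exists_lift (π : Set ℕ) {f : G →* X} (hf : Function.Surjective f) {x : X}
    (hx : PiE πᶜ x) : ∃ b, PiE πᶜ b ∧ f b = x := by
  obtain ⟨g, rfl⟩ := hf x
  obtain ⟨a, ⟨i, rfl⟩, b, ⟨j, rfl⟩, e, h1, h2⟩ := exists_piPart π g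
  refine ⟨_, h2, (piPart_unique (π := π) (a := f (g ^ i)) (c := 1) (by rw [← map_mul, one_mul, ← e])
    (((Commute.refl g).zpow_zpow i j).map f) (Commute.one_left _) (h1.of_dvd (orderOf_map_dvd f _))
    (h2.of_dvd (orderOf_map_dvd f _)) (by simpa [PiE] using PiNum.one π) hx).2⟩

theorem NC.hall (h : NC π M) : Hall πᶜ (piCoreOf πᶜ M) M := by
  refine ⟨piCoreOf_le _ _, piG_piCoreOf _ _, fun p hp hd c => ?_⟩
  have := Fact.mk hp
  obtain ⟨P, hP⟩ := H5.exists_isSylowOf p M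
  exact hP.not_dvd (hd.trans (relIndex_dvd_of_le_left M fun x hx =>
    h x (hP.le hx) ((piG_of_isPGroup hP.isPGroup c).elt hx)))

namespace Hy

theorem odd (h : Hy π G) (hM : PiG πᶜ M) : Odd (Nat.card M) :=
  Nat.not_even_iff_odd.mp fun e => hM 2 Nat.prime_two (even_iff_two_dvd.mp e) h.two

theorem of_inj (h : Hy π G) {f : X →* G} (hf : Function.Injective f) : Hy π X := by
  refine ⟨h.two, fun H P hH hP x hx => mnor fun y hy => ?_, fun H hH x hx hx' =>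
    GW.cen.mpr fun y hy => hf ?_⟩
  · have := cmem (h.cl _ _ (hH.map f) (hP.map f) (mem_map_of_mem f hx)) (mem_map_of_mem f hy)
    rwa [← map_inv, ← map_mul, ← map_mul, mem_map_iff_mem hf] at this
  · rw [map_mul, map_mul]
    exact GW.cen.mp (h.ce _ (hH.map f) _ (le_normalizer_map f (mem_map_of_mem f hx))
      (by rwa [PiE, orderOf_injective f hf])) _ (mem_map_of_mem f hy)

theorem of_surj (h : Hy π G) {f : G →* X} (hf : Function.Surjective f)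
    (hk : PiG π f.ker ∨ PiG πᶜ f.ker) : Hy π X := by
  have key : ∀ H : Subgroup X, PiG π H → ∃ K : Subgroup G, PiG π K ∧ K.map f = H ∧
      ∀ x ∈ Nor H, PiE πᶜ x → ∃ y ∈ Nor K, PiE πᶜ y ∧ f y = x := by
    intro H hH
    have e := map_comap_eq_self_of_surjective hf H
    rcases hk with hk | hk
    · refine ⟨_, PiG.of_map f (e.symm ▸ hH) (hk.of_le inf_le_right), e, fun x hx hx' => ?_⟩
      obtain ⟨b, h1, rfl⟩ := exists_lift π hf hx'
      exact ⟨b, le_normalizer_comap f hx, h1, rfl⟩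
    have hh : Hall πᶜ f.ker (H.comap f) := ⟨ker_le_comap f H, hk, by
      rw [relIndex_ker, e, compl_compl]; exact hH⟩
    obtain ⟨K, hK⟩ := hh.exists_sd le_normalizer_of_normal
    have p : PiG π K := by simpa using (hK.compl_hall hh).pi
    refine ⟨K, p, by rw [← e, ← hK.sup, Subgroup.map_sup, map_ker_self, bot_sup_eq], fun x hx hx' => ?_⟩
    obtain ⟨b, h1, rfl⟩ := exists_lift π hf hx'
    obtain ⟨k, k1, k2⟩ := H5.exists_conj_eq hK.nor (p.coprime hk) (Or.inr (odd_solv (h.odd hk)))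
      (B := conjS b K) (by
        rw [hK.sup, ← mem_normalizer_iff_conjS.mp (le_normalizer_comap f hx)]
        exact conjS_mono b hK.right_le) (card_conjS b K)
    exact ⟨k * b, mem_normalizer_iff_conjS.mpr (by rw [← conjS_conjS]; exact k2),
      (hk.sup' (piG_zpowers.mpr h1) le_normalizer_of_normal).elt
        (mul_mem (mem_sup_left k1) (mem_sup_right (mem_zpowers b))),
      by rw [map_mul, f.mem_ker.mp k1, one_mul]⟩
  refine ⟨h.two, fun H P hH hP => ?_, fun H hH x hx hx' => ?_⟩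
  · obtain ⟨K, h1, rfl, -⟩ := key H hH
    obtain ⟨Q, hQ⟩ := H5.exists_isSylowOf 2 K
    have := H5.map_le_normalizer_map f (h.cl K Q h1 hQ)
    rwa [hP.eq_of_le (hQ.map f).isPGroup ((hQ.map f).le_of_le_normalizer' hP.isPGroup hP.le
      (hP.le.trans this)) (hQ.map f).le] at this
  · obtain ⟨K, h1, rfl, h2⟩ := key H hH
    obtain ⟨y, h3, h4, rfl⟩ := h2 x hx hx'
    rintro _ ⟨z, hz, rfl⟩
    rw [← map_mul, ← map_mul, h.ce K h1 y h3 h4 z hz]

theorem no_dih (h : Hy π G) (tt : t * t = 1) (e : t * x * t⁻¹ = x⁻¹) (hx : PiE π x)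
    (ho : Odd (orderOf x)) : x = 1 := by
  have hn : zpowers t ≤ Nor (zpowers x) := zpowers_le.mpr (mnor fun y hy => by
    obtain ⟨k, rfl⟩ := mem_zpowers_iff.mp hy
    rw [← conj_zpow, e]
    exact zpow_mem (inv_mem (mem_zpowers x)) k)
  have t2 := H5.Dich.pgroup_inv tt
  obtain ⟨P, hP, h1⟩ := H5.exists_isSylowOf_ge t2 (le_sup_left (b := zpowers x))
  have := cen_of_inf_bot h1 le_rfl hn (le_sup_right.trans (h.cl _ P ((piG_of_isPGroup t2 h.two).sup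
    (piG_zpowers.mpr hx) hn) hP)) (W.two_odd hP.isPGroup (by rwa [Nat.card_zpowers]))
  rw [GW.cen.mp (this (mem_zpowers t)) x (mem_zpowers x), mul_inv_cancel_right] at e
  exact eq_one_of_odd_sq ho (by nth_rewrite 2 [e]; exact mul_inv_cancel x)

theorem no_se (h : Hy π G) (hO : oddCore G = ⊥) (se : IsStronglyEmbedded M) : False := by
  obtain ⟨Q, D, t, H, c⟩ := BS.seThm G _ se (BS.rk2_top_iff.mp (BS.rk2_of_se se hO)) hO
  obtain ⟨k, hk, k1⟩ := H.toA1.exists_K_ne_one H.a3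
  obtain ⟨a, ha, b, hb, e, h1, h2⟩ := exists_piPart π k
  have a1 := H.toA1.mem_K_of_zpowers hk ha
  have b1 := (H.toA1.mem_K_of_zpowers hk hb).1
  rw [h.no_dih H.t_sq (by rw [inv_eq_of_mul_eq_one_right H.t_sq, a1.2]) h1 (odd_ord H.odd a1.1),
    mem_bot.mp (H.faith.le ⟨b1, h.ce Q (piG_of_isPGroup c.two h.two) b (H.sd.nor b1) h2⟩),
    one_mul] at e
  exact k1 e

theorem dec (h : Hy π G) (hM : NC π M) (hP : IsSylowOf 2 P M) (hg : g ∈ M) :
    ∃ o ∈ Oo M, ∃ n ∈ Nor P, g = o * n := by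
  obtain ⟨H, hH⟩ := hM.hall.exists_sd (le_nor_piCoreOf _ _)
  have h1 : Hall π H M := by simpa using hH.compl_hall hM.hall
  obtain ⟨Q, hQ⟩ := H5.exists_isSylowOf 2 H
  obtain ⟨m, hm, rfl⟩ := (h1.sylow hQ h.two).exists_conj hP
  obtain ⟨a, ha, b, hb, rfl⟩ := (hH.conj_of_mem hm).exists_mul hg
  exact ⟨a, le_Oo (piCoreOf_le _ _) (le_nor_piCoreOf _ _) (h.odd (piG_piCoreOf _ _)) ha, b,
    H5.map_le_normalizer_map _ (h.cl H Q h1.pi hQ) hb, rfl⟩

theorem solv (h : Hy π G) (hM : NC π M) : Group.IsSolvable M := by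
  obtain ⟨H, hH⟩ := hM.hall.exists_sd (le_nor_piCoreOf _ _)
  have h1 : Hall π H M := by simpa using hH.compl_hall hM.hall
  obtain ⟨Q, hQ⟩ := H5.exists_isSylowOf 2 H
  obtain ⟨R, hR⟩ := (hall_singleton.mpr hQ).exists_sd (h.cl H Q h1.pi hQ)
  rw [← hH.sup]
  refine H5.isSolvable_sup hH.nor (odd_solv (h.odd (piG_piCoreOf _ _))) ?_
  rw [← hR.sup]
  exact H5.isSolvable_sup hR.nor (H5.isSolvable_of_isPGroup hQ.isPGroup) (odd_solv (odd_iff_cop.mpr
    ((piG_compl_singleton Nat.prime_two).mp (hR.compl_hall (hall_singleton.mpr hQ)).pi)))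

end Hy

theorem conj_syl {R : Subgroup G}
    (h : ∀ E, D ≤ E → IsPGroup 2 E → Oo (Nor E) ≤ R ∧ ∀ P, IsSylowOf 2 P (Nor E) →
      ∀ g ∈ Nor E, ∃ o ∈ Oo (Nor E), ∃ n ∈ Nor P, g = o * n) (E : Subgroup G) :
    D ≤ E → ∀ S₁ S₂, IsSylowOf 2 S₁ ⊤ → IsSylowOf 2 S₂ ⊤ → E ≤ S₁ → E ≤ S₂ →
      ∃ c ∈ R, conjS c S₁ = S₂ := by
  induction E using WellFoundedGT.induction with
  | ind E ih =>
  intro hE S₁ S₂ h1 h2 e1 e2
  rcases e1.eq_or_lt with rfl | e1
  · exact ⟨1, one_mem _, by rw [conjS_one, h1.eq_of_le h2.isPGroup e2 le_top]⟩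
  rcases e2.eq_or_lt with rfl | e2
  · exact ⟨1, one_mem _, by rw [conjS_one, h2.eq_of_le h1.isPGroup e1.le le_top]⟩
  obtain ⟨hR, hd⟩ := h E hE (h1.isPGroup.to_le e1.le)
  have l1 := H5.lt_inf_normalizer_of_isPGroup h1.isPGroup e1
  have l2 := H5.lt_inf_normalizer_of_isPGroup h2.isPGroup e2
  obtain ⟨T₁, t1, p1⟩ := H5.exists_isSylowOf_ge h1.isPGroup.to_inf_left (inf_le_right (b := Nor E))
  obtain ⟨T₂, t2, p2⟩ := H5.exists_isSylowOf_ge h2.isPGroup.to_inf_left (inf_le_right (b := Nor E))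
  obtain ⟨m, hm, e⟩ := t1.exists_conj t2
  obtain ⟨o, ho, n, hn, rfl⟩ := hd _ t1 m hm
  obtain ⟨S, hS, p3⟩ := H5.exists_isSylowOf_ge t1.isPGroup le_top
  obtain ⟨c, hc, e3⟩ := ih _ l1 (hE.trans l1.le) _ _ h1 hS inf_le_left (p1.trans p3)
  obtain ⟨d, hd, e4⟩ := ih _ l2 (hE.trans l2.le) (conjS o S) _
    (hS.map_conj (le_normalizer (mem_top o))) h2 (p2.trans (by
      rw [← e, ← conjS, ← conjS_conjS, mem_normalizer_iff_conjS.mp hn]
      exact conjS_mono o p3)) inf_le_left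
  exact ⟨d * o * c, mul_mem (mul_mem hd (hR ho)) hc, by rw [← conjS_conjS, ← conjS_conjS, e3, e4]⟩

theorem fuse_of (h : ∀ M : Subgroup G, M ≠ ⊤ → ∀ P, IsSylowOf 2 P M →
      ∀ g ∈ M, ∃ o ∈ Oo M, ∃ n ∈ Nor P, g = o * n)
    (h2 : ∀ E : Subgroup G, E ≠ ⊥ → IsPGroup 2 E → Nor E ≠ ⊤) (hS : IsSylowOf 2 S ⊤)
    (hx : x ∈ S) (hg : g * x * g⁻¹ ∈ S) : ∃ n ∈ Nor S, n * x * n⁻¹ = g * x * g⁻¹ := by
  by_cases x1 : x = 1
  · exact ⟨1, one_mem _, by simp [x1]⟩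
  obtain ⟨c, hc, e⟩ := conj_syl (D := zpowers x) (R := Cen1 x) (fun E hE h1 =>
    ⟨(cen_of_inf_bot le_rfl le_rfl (pPrimeCoreIn_le _ _) (le_normalizer.trans (lOo _))
      (by rw [inf_comm]; exact W.two_odd h1 (odd_Oo _))).trans
        (cen_le_cen1 (hE (mem_zpowers x))),
      h _ (h2 E (W.ne_bot_of (hE (mem_zpowers x)) x1) h1)⟩) _ le_rfl _ _ hS
    (hS.map_conj (g := g⁻¹) (le_normalizer (mem_top _))) (zpowers_le.mpr hx)
    (zpowers_le.mpr (mem_conjS.mpr (by simpa using hg)))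
  refine ⟨g * c, mem_normalizer_iff_conjS.mpr (by
    rw [← conjS_conjS, e, ← conjS, conjS_conjS_inv]), ?_⟩
  nth_rewrite 2 [← c1'.mp hc]
  group

end Ly
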