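import Cfsg.Agent.Ly.Pi1
import Cfsg.Agent.W.Main
import Cfsg.Agent.H9.SL2

/-! Groups whose `π`-subgroups are 2-closed: the normal complement theorem. -/

set_option autoImplicit false
set_option linter.unusedSectionVars false

namespace Ly

open Cfsg Subgroup FT H4 GW H9
open H5 (IsSylowOf)
open scoped MatrixGroups

universe u

variable {π : Set ℕ}

theorem Hy.psl2 {F : Type*} [Field F] [Fintype F]
    (h : Hy π (Matrix.ProjectiveSpecialLinearGroup (Fin 2) F)) (h3 : 3 ∈ π)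
    (hq : Fintype.card F % 8 = 3 ∨ Fintype.card F % 8 = 5) (h5 : 5 ≤ Fintype.card F) : False := by
  let f : SL(2, F) →* Matrix.ProjectiveSpecialLinearGroup (Fin 2) F := QuotientGroup.mk' _
  have k1 : ∀ g : SL(2, F), f g = 1 → g 0 1 = 0 ∧ g 0 0 = g 1 1 := fun g e => by
    obtain ⟨r, -, hr⟩ := Matrix.SpecialLinearGroup.mem_center_iff.mp
      ((QuotientGroup.eq_one_iff g).mp e)
    have := fun i j => congrFun (congrFun hr i) j
    simp [← this]
  have k2 : f (-1) = 1 := (QuotientGroup.eq_one_iff _).mpr (mem_center_iff.mpr fun g => by simp)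
  have dih : ∀ (w g : SL(2, F)) (p : ℕ), p.Prime → p ≠ 2 → p ∈ π → w * w = -1 → w * g = g⁻¹ * w →
      g ^ p = 1 → g 0 1 = 0 ∧ g 0 0 = g 1 1 := fun w g p hp p2 hπ e1 e2 e3 => by
    have o := orderOf_dvd_of_pow_eq_one (x := f g) (by rw [← map_pow, e3, map_one])
    exact k1 g (h.no_dih (t := f w) (by rw [← map_mul, e1, k2])
      (by rw [← map_mul, e2, map_mul, map_inv, mul_inv_cancel_right])
      ((PiNum.of_prime hp hπ).of_dvd o) ((hp.odd_of_ne_two p2).of_dvd_nat o))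
  have h2 := two_ne_zero_of_odd (F := F) (Nat.odd_iff.mpr (by omega))
  by_cases c : (3 : F) = 0
  swap
  · obtain ⟨a, b, e⟩ := FiniteField.exists_root_sum_quadratic (R := F) (f := Polynomial.X ^ 2)
      (g := Polynomial.C 3 * Polynomial.X ^ 2 + Polynomial.C 4) (Polynomial.degree_X_pow 2)
      (by compute_degree!) (by omega)
    simp only [Polynomial.eval_add, Polynomial.eval_mul, Polynomial.eval_pow, Polynomial.eval_X,
      Polynomial.eval_C] at e
    obtain ⟨a, rfl⟩ : ∃ c, a = 2 * c + b := ⟨(a - b) / 2, by field_simp; ring⟩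
    have e1 : a * a + a * b + b * b + 1 = 0 :=
      mul_left_cancel₀ (mul_ne_zero h2 h2) (by linear_combination e)
    have := (dih (slMk a b (a + b) (-a) (by linear_combination -e1)) (slMk 0 (-1) 1 (-1) (by simp)) 3
      Nat.prime_three (by norm_num) h3 (sl_ext ?_ ?_ ?_ ?_) (sl_ext ?_ ?_ ?_ ?_)
      (sl_ext ?_ ?_ ?_ ?_)).1
    · simp [slMk01] at this
    all_goals
      simp only [pow_succ, pow_zero, one_mul, sl_mul_apply, sl_neg_apply, slMk00, slMk01, slMk10,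
        slMk11, sl_one00, sl_one01, sl_one10, sl_one11, sl_inv00, sl_inv01, sl_inv10, sl_inv11]
      first | ring1 | linear_combination e1
  have d3 : 3 ∣ Fintype.card F := (@prime_dvd_char_iff_dvd_card F _ _ 3 ⟨Nat.prime_three⟩).mp
    (by rw [CharP.ringChar_of_prime_eq_zero Nat.prime_three (by exact_mod_cast c)])
  obtain ⟨m, m1, m2, m3⟩ : ∃ m, m ≠ 1 ∧ m % 2 = 1 ∧ m ∣ Fintype.card F - 1 := by
    rcases hq with e | e
    · exact ⟨(Fintype.card F - 1) / 2, by omega, by omega, 2, by omega⟩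
    · exact ⟨(Fintype.card F - 1) / 4, by omega, by omega, 4, by omega⟩
  obtain ⟨p, hp, hd⟩ := Nat.exists_prime_and_dvd m1
  have p2 : p ≠ 2 := fun e => by subst e; omega
  have := Fact.mk hp
  obtain ⟨a, ha⟩ := exists_prime_orderOf_dvd_card' (G := Fˣ) p
    (by rw [Nat.card_units, Nat.card_eq_fintype_card]; exact hd.trans m3)
  have a2 : (a : F) * a ≠ 1 := fun e => hp.one_lt.ne' (by
    rw [← ha, eq_one_of_odd_sq (x := a) (ha ▸ hp.odd_of_ne_two p2) (Units.ext e), orderOf_one])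
  let d : Fˣ →* SL(2, F) := MonoidHom.mk' (fun a => slMk a 0 0 (a⁻¹ : Fˣ) (by simp)) fun a b =>
    sl_ext (by simp [sl_mul_apply, slMk00, slMk01, slMk10]) (by simp [sl_mul_apply, slMk01])
      (by simp [sl_mul_apply, slMk10]) (by simp [sl_mul_apply, slMk11, slMk01, slMk10, mul_comm])
  have e3 : d a ^ p = 1 := by rw [← map_pow, ← ha, pow_orderOf_eq_one, map_one]
  by_cases hπ : p ∈ π
  · have := (dih (slW F) (d a) p hp p2 hπ slW_sq (sl_ext ?_ ?_ ?_ ?_) e3).2
    · exact a2 (by nth_rewrite 2 [show (a : F) = (a⁻¹ : Fˣ) from this]; simp)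
    all_goals simp [d, slW, sl_mul_apply, slMk00, slMk01, slMk10, slMk11, sl_inv00, sl_inv01,
      sl_inv10, sl_inv11]
  let u : Multiplicative F →* SL(2, F) := MonoidHom.mk' (fun x => slMk 1 x.toAdd 0 1 (by simp))
    fun a b => sl_ext (by simp [sl_mul_apply, slMk00, slMk01, slMk10])
      (by simp [sl_mul_apply, slMk00, slMk01, slMk11, add_comm])
      (by simp [sl_mul_apply, slMk10]) (by simp [sl_mul_apply, slMk11, slMk10])
  have du : ∀ x, d a * u x * (d a)⁻¹ = u (Multiplicative.ofAdd (a * a * x.toAdd)) := fun x => by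
    refine sl_ext ?_ ?_ ?_ ?_ <;> simp [d, u, sl_mul_apply, slMk00, slMk01, slMk10, slMk11,
      sl_inv00, sl_inv01, sl_inv10, sl_inv11]
    ring
  have := h.ce (f.comp u).range (piG_of_isPGroup (p := 3) (hp := ⟨Nat.prime_three⟩)
    (IsPGroup.of_surjective (fun x => ⟨1, Multiplicative.toAdd.injective (by
      simp [c])⟩) _ (f.comp u).rangeRestrict_surjective) h3) (f (d a)) (mnor (by
        rintro _ ⟨x, rfl⟩
        exact ⟨_, (congrArg f (du x)).symm.trans (by simp)⟩))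
    ((PiNum.of_prime hp hπ).of_dvd (orderOf_dvd_of_pow_eq_one (by rw [← map_pow, e3, map_one])))
  have e4 := (k1 (d a * u (Multiplicative.ofAdd 1) * (d a)⁻¹ * (u (Multiplicative.ofAdd 1))⁻¹) (by
    simp only [map_mul, map_inv]
    rw [← this (f (u _)) ⟨Multiplicative.ofAdd 1, rfl⟩]; simp)).1
  rw [du, ← map_inv, ← map_mul] at e4
  exact a2 (by simpa [u, slMk01, add_neg_eq_zero] using e4)

variable {G : Type u} [Group G] [Finite G]

theorem Hy.simple [IsSimpleGroup G] (h : Hy π G) (hG : ¬ IsMulCommutative G)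
    (ih : ∀ M : Subgroup G, M ≠ ⊤ → NC π M) : False := by
  have ev := BS.even_of_simple hG
  have hO := BS.oddCore_of_simple ev
  have n2 : ∀ E : Subgroup G, IsPGroup 2 E → E ≠ ⊤ := fun E hE e =>
    H8.not_isPGroup_of_simple hG 2 ((e ▸ hE).of_equiv topEquiv)
  have h2 : ∀ E : Subgroup G, E ≠ ⊥ → IsPGroup 2 E → Nor E ≠ ⊤ := fun E e0 hE =>
    H8.normalizer_ne_top E e0 (n2 E hE)
  have hd := fun M hM P hP g hg => h.dec (ih M hM) (P := P) hP (g := g) hg
  obtain ⟨S, hS⟩ := H5.exists_isSylowOf 2 (⊤ : Subgroup G)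
  have S0 := hS.ne_bot (by rw [card_top]; exact even_iff_two_dvd.mp ev)
  by_cases h3 : PRankLE 2 2 G
  swap
  · have hc : H5.Dich.Con G := fun b bb b1 => H5.isPConstrained_of_isSolvable (h.solv (ih _ fun e =>
      h2 _ (zpowers_ne_bot.mpr b1) (H5.Dich.pgroup_inv bb) (top_le_iff.mp (e ▸ nzp le_rfl))))
    refine h.no_se hO (BS.se_of_sylow (h2 S S0 hS.isPGroup) hS S0 fun Q hQ Q0 g hg => ?_)
    obtain ⟨c, hc', e⟩ := conj_syl (D := Q) (R := ⊥) (fun E hE h1 => by
      have E0 : E ≠ ⊥ := fun e => Q0 (le_bot_iff.mp (e ▸ hE))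
      refine ⟨?_, hd _ (h2 E E0 h1)⟩
      rw [← W.two_odd (isPGroup_pCoreIn 2 (Nor E)) (odd_Oo (Nor E))]
      exact le_inf ((le_inf (pPrimeCoreIn_le _ _) (H5.SS.pPrimeCoreIn_le_cen 2 _)).trans
        (H5.centralizer_pCore_le_iff_in.mp (hc.charTwo (fun t tt t1 =>
          H5.Dich.core_eq_bot_of_simple BS.seThm hG hc h3 (W.o2 tt t1)) h1 E0))) le_rfl)
      _ le_rfl _ _ hS (hS.map_conj (g := g) (le_normalizer (mem_top _))) hQ
      ((mem_normalizer_iff_conjS.mp hg).ge.trans (conjS_mono g hQ))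
    rw [mem_bot.mp hc', conjS_one] at e
    exact mem_normalizer_iff_conjS.mpr e.symm
  obtain ⟨z, hz, zz, z1, hc⟩ := H5.Dich.exists_central hS.isPGroup S0
  have zc := cen_iff_le.mpr hc
  obtain ⟨n, hn, e⟩ : ∃ n ∈ Nor S, n * z * n⁻¹ ≠ z := by
    by_contra! c
    obtain ⟨P, rfl⟩ := hS.exists_sylow_top
    refine hG ⟨⟨H3.comm_of_isolated (W.o2 zz z1) (H3.isolated_of_normalizer P
      (L.PElt_of_mem hS.isPGroup hz) zc (fun g hg => ?_) c)⟩⟩
    obtain ⟨n, hn, e⟩ := fuse_of hd h2 hS hz hg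
    exact e ▸ cmem (mcen hn) zc
  have f : F4 z (n * z * n⁻¹) := ⟨W.o2 zz z1, iconj (W.o2 zz z1) n, c1.mp (hc (cmem hn hz)) ▸ rfl, e⟩
  have ZC : V4 z (n * z * n⁻¹) ≤ S ⊓ Cen S := V_le ⟨hz, zc⟩ ⟨cmem hn hz, cmem (mcen hn) zc⟩
  have sq : ∀ x ∈ V4 z (n * z * n⁻¹), x * x = 1 := fun x hx => by
    rcases f.mem_V.mp hx with rfl | rfl | rfl | rfl
    exacts [mul_one 1, zz, ii f.ha, f.sq]
  have mem : ∀ x, x ∈ V4 z (n * z * n⁻¹) ↔ x ∈ S ∧ x * x = 1 := fun x =>
    ⟨fun hx => ⟨(ZC hx).1, sq x hx⟩, fun hx => by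
      have := H5.Dich.elem_adjoin ⟨f.comm_V, fun a ha => by rw [pow_two, sq a ha]⟩ hx.2
        (ZC.trans (inf_le_right.trans (cen_le_cen1 hx.1)))
      rw [eq_of_le_of_card_ge (le_sup_left (b := zpowers x)) ((h3 _ this.1 this.2).trans
        f.card_V.ge)]
      exact mem_sup_right (mem_zpowers x)⟩
  have := Fintype.ofFinite G
  have t : T3 S (V4 z (n * z * n⁻¹)) n := by
    refine ⟨hS.isPGroup, f.card_V, mem, fun a ha x hx => (ZC ha).2 x hx, hn, fun a ha e1 => ?_⟩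
    rcases f.mem_V.mp ha with rfl | rfl | rfl | rfl
    · rfl
    · exact absurd e1 e
    · exact absurd (mul_left_cancel (mul_right_cancel e1)) e
    obtain ⟨s, hs, y, y1, e2, y2⟩ := exists_decomp_nor hS hn
    have y3 := zpowers_le.mpr hn y2
    refine fix_of_odd (k := 1) (odd_iff_cop.mpr y1) (y := z) (by rw [pow_one, pow_two, f.sq])
      (c1.mp (zpowers_le.mpr (c1'.mpr e1) y2)) ?_
    rw [f.tta, e2, mul_inv_rev, mul_assoc s, ← mul_assoc, mul_assoc s,
      (cmem (mcen y3) zc) s hs, mul_inv_cancel_right]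
  generalize V4 z (n * z * n⁻¹) = Z at t
  obtain ⟨a, ha, b, hb, e1, a3, b3⟩ := exists_piPart {3} n
  have bc : b ∈ Cen Z := by
    obtain ⟨j, hj⟩ := exists_pow_eq_self_of_coprime
      ((piNum_compl_singleton' Nat.prime_three).mp b3).symm
    obtain ⟨i, rfl⟩ := hb
    exact hj ▸ pow_mem (H5.mem_of_eq (zpow_mem t.cube i) (by
      rw [← zpow_natCast, ← zpow_natCast, ← zpow_mul, ← zpow_mul, mul_comm])) j
  have t' : T3 S Z a := ⟨t.two, t.cardZ, t.mem, t.cen, zpowers_le.mpr hn ha, fun x hx e2 =>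
    t.fpf x hx (by rw [e1, mul_assoc a, GW.cen.mp bc x hx]; exact Eq.trans (by group) e2)⟩
  obtain ⟨x, hx, x1⟩ := t.exists_ne
  have ac : a ∉ Cen Z := fun c => x1 (t'.fpf x hx (by rw [GW.cen.mp c x hx]; group))
  obtain ⟨m, hm⟩ := (piNum_singleton Nat.prime_three (orderOf_pos a).ne').mp a3
  by_cases c : IsMulCommutative S
  swap
  · exact h.no_se hO ((t'.u34 (hm ▸ pow_orderOf_eq_one a) c).base hS t'.nor ac).se
  have e4 := W.brauer_ab (H8.commutator_eq_top_of_simple hG) hS c (t.f4 hx x1) (t.le hx)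
    (t.le (t.cj hx)) fun y hy yy =>
      (t.f4 hx x1).mem_V.mpr ((t.cases hx x1).mp ((t.mem y).mpr ⟨hy, yy⟩))
  obtain ⟨F, _, _, q1, q2, ⟨φ⟩⟩ := W.l2_four hG ⟨hS, c⟩ (e4 ▸ (t.f4 hx x1).card_V)
  refine (h.of_inj (f := φ.symm.toMonoidHom) φ.symm.injective).psl2 ?_ q1 q2
  by_contra c3
  exact ac (h.ce Z (piG_of_isPGroup (t.two.to_le t.le) h.two) a (mnor fun _ => t'.cj)
    (a3.mono (by simpa using c3)))

theorem Hy.nc (n : ℕ) : ∀ (G : Type u) [Group G] [Finite G], Nat.card G = n → Hy π G →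
    ∀ x : G, PiE πᶜ x → x ∈ piCore πᶜ G := by
  induction n using Nat.strong_induction_on with
  | h n ih =>
  intro G _ _ hn h x hx
  have sub : ∀ M : Subgroup G, M ≠ ⊤ → NC π M := fun M hM x hx hx' => mem_map_of_mem M.subtype
    (ih _ (hn ▸ card_top (G := G) ▸ H5.card_lt_of_lt (lt_top_iff_ne_top.mpr hM)) M rfl
      (h.of_inj M.subtype_injective) ⟨x, hx⟩ (by rwa [PiE, ← orderOf_coe]))
  have quo : ∀ (N : Subgroup G) [N.Normal], N ≠ ⊥ → PiG π N ∨ PiG πᶜ N →
      x ∈ (piCore πᶜ (G ⧸ N)).comap (QuotientGroup.mk' N) := fun N _ N0 hN =>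
    ih _ (hn ▸ L.card_quotient_lt N0) _ rfl (h.of_surj (QuotientGroup.mk'_surjective N)
      (by rwa [QuotientGroup.ker_mk'])) _ (hx.of_dvd (orderOf_map_dvd _ x))
  have le : ∀ N : Subgroup G, N.Normal → PiG πᶜ N → N ≤ piCore πᶜ G := fun N _ hN =>
    (le_piCoreOf le_top le_normalizer_of_normal hN).trans (piCoreOf_top πᶜ).le
  by_cases c : piCore πᶜ G = ⊥
  swap
  · refine le _ inferInstance (PiG.of_map (QuotientGroup.mk' _) ((piG_piCore _).of_le
      (map_comap_le _ _)) ?_) (quo _ c (Or.inr (piG_piCore _)))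
    rw [QuotientGroup.ker_mk']
    exact (piG_piCore _).of_le inf_le_right
  have le' : ∀ N : Subgroup G, N.Normal → piCoreOf πᶜ N = ⊥ := fun N _ => le_bot_iff.mp (c ▸ le _
    (normalizer_eq_top_iff.mp (top_le_iff.mp (le_normalizer_of_normal.trans
      (nor_le_nor_piCoreOf _ N)))) (piG_piCoreOf _ _))
  by_cases hs : ∀ N : Subgroup G, N.Normal → N = ⊥ ∨ N = ⊤
  · by_cases hG : IsMulCommutative G
    · exact le _ inferInstance (piG_zpowers.mpr hx) (mem_zpowers x)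
    have : Nontrivial G := not_subsingleton_iff_nontrivial.mp fun _ =>
      hG ⟨⟨fun _ _ => Subsingleton.elim _ _⟩⟩
    have : IsSimpleGroup G := ⟨hs⟩
    exact (h.simple hG sub).elim
  push Not at hs
  obtain ⟨N, hN, N0, N1⟩ := hs
  have p : PiG π N := compl_compl π ▸ (le' N hN ▸ (sub N N1).hall).piG_compl_of_eq_bot
  have m := quo N N0 (Or.inl p)
  have hh : Hall π N ((piCore πᶜ (G ⧸ N)).comap (QuotientGroup.mk' N)) :=
    ⟨(QuotientGroup.ker_mk' N).ge.trans (ker_le_comap _ _), p, by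
      nth_rewrite 1 [← QuotientGroup.ker_mk' N]
      rw [relIndex_ker]
      exact (piG_piCore _).of_le (map_comap_le _ _)⟩
  obtain ⟨K, hK⟩ := hh.exists_sd le_normalizer_of_normal
  have k := hK.compl_hall hh
  have e := k.eq_piCoreOf (hK.sup.ge.trans (sup_le (cnor (le_cen_symm fun y hy =>
    h.ce N p y (hK.nor hy) (k.pi.elt hy))) le_normalizer))
  rw [← hK.sup, e, le' _ inferInstance, sup_bot_eq] at m
  rw [(p.elt m).eq_one hx]
  exact one_mem _

end Ly
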